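import Mathlib.AlgebraicGeometry.Morphisms.SchemeTheoreticallyDominant
import Mathlib.AlgebraicGeometry.Morphisms.Separated
import Mathlib.AlgebraicGeometry.Morphisms.ClosedImmersion

/-! # Morphisms to separated schemes are determined by schematically dominant morphisms -/

universe u

open CategoryTheory Limits AlgebraicGeometry

namespace Groth.Agent.NeronLib

theorem ext_of_schemeTheoreticallyDominant {W X Y S : Scheme.{u}} (s : Y ⟶ S) [IsSeparated s]
    {f g : X ⟶ Y} (hs : f ≫ s = g ≫ s) (ι : W ⟶ X) [IsSchemeTheoreticallyDominant ι]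
    (h : ι ≫ f = ι ≫ g) : f = g := by
  let v : X ⟶ pullback s s := pullback.lift f g hs
  let E := pullback v (pullback.diagonal s)
  let e : E ⟶ X := pullback.fst v (pullback.diagonal s)
  have he : IsClosedImmersion e := MorphismProperty.pullback_fst _ _ IsSeparated.isClosedImmersion_diagonal
  have hcond : ι ≫ v = (ι ≫ f) ≫ pullback.diagonal s := by
    apply pullback.hom_ext <;> simp [v, h, pullback.lift_fst, pullback.lift_snd]
  let l : W ⟶ E := pullback.lift ι (ι ≫ f) hcond
  have hl : l ≫ e = ι := pullback.lift_fst _ _ _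
  have : IsIso e := by
    rw [IsClosedImmersion.isIso_iff_ker_eq_bot, ← le_bot_iff, ← ι.ker_eq_bot, ← hl]
    exact Scheme.Hom.le_ker_comp _ _
  have hc : e ≫ v = pullback.snd v (pullback.diagonal s) ≫ pullback.diagonal s := pullback.condition
  have h1 := congrArg (fun z => z ≫ pullback.fst s s) hc
  have h2 := congrArg (fun z => z ≫ pullback.snd s s) hc
  simp [v, pullback.lift_fst, pullback.lift_snd] at h1 h2
  rw [← cancel_epi e, h1, h2]

end Groth.Agent.NeronLib
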